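import Mathlib
import Groth.Agent.Lib.Helper88.CTensor.DerExt
import Groth.Agent.Lib.Helper88.OmegaHat.Unramified

/-!
# Fibre ranks of completed differentials under completed base field extension (helper88)

`A` complete Noetherian local `k`-algebra with residue field finite over `k`, `k'/k` a field
extension, `B = C'_M` a complete local factor of `C' = (A ⊗_k k')^`, `P'` a prime of `B` over the
prime `p` of `A`.  Then
`dim_{κ(p)} κ(p) ⊗ Ω̂_{A/k} ≤ dim_{κ(P')} κ(P') ⊗ Ω̂_{B/k'}`.
-/

set_option autoImplicit false
set_option linter.unusedSectionVars false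
set_option linter.style.haveILetI false

universe u

namespace Groth.Agent.Lib.Helper88.CTensor

open IsLocalRing TensorProduct Groth.Agent.Lib.Helper88.OmegaHat

section Func

variable (k A : Type u) [Field k] [CommRing A] [IsLocalRing A] [IsNoetherianRing A] [Algebra k A]
  [IsAdicComplete (maximalIdeal A) A]

/-- a derivation into a finite module factors through the completed differentials -/
theorem exists_functional_of_derivation (N : Type u) [AddCommGroup N] [Module A N] [Module k N]
    [IsScalarTower k A N] [Module.Finite A N] (D : Derivation k A N) :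
    ∃ Φ : AdicCompletion (maximalIdeal A) (Ω[A⁄k]) →ₗ[A] N,
      ∀ a, Φ (AdicCompletion.of (maximalIdeal A) (Ω[A⁄k]) (KaehlerDifferential.D k A a)) = D a := by
  have hNc : IsAdicComplete (maximalIdeal A) N :=
    Groth.Agent.Lib.Helper75.CompletedModules.isAdicComplete_of_finite N
  let lam : Ω[A⁄k] →ₗ[A] N := D.liftKaehlerDifferential
  let Φ : AdicCompletion (maximalIdeal A) (Ω[A⁄k]) →ₗ[A] N :=
    (AdicCompletion.ofLinearEquiv (maximalIdeal A) N).symm.toLinearMap ∘ₗ
      (AdicCompletion.map (maximalIdeal A) lam).restrictScalars A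
  refine ⟨Φ, fun a => ?_⟩
  have h1 : Φ (AdicCompletion.of (maximalIdeal A) (Ω[A⁄k]) (KaehlerDifferential.D k A a)) =
      lam (KaehlerDifferential.D k A a) := by
    simp only [Φ, LinearMap.comp_apply, LinearMap.restrictScalars_apply, AdicCompletion.map_of,
      LinearEquiv.coe_coe]
    rw [← AdicCompletion.ofLinearEquiv_apply, LinearEquiv.symm_apply_apply]
  rw [h1, Derivation.liftKaehlerDifferential_comp_D]

end Func

section FR

variable (k A k' : Type u) [Field k] [CommRing A] [IsLocalRing A] [IsNoetherianRing A] [Algebra k A]
  [IsAdicComplete (maximalIdeal A) A] [Module.Finite k (ResidueField A)] [Field k'] [Algebra k k']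

local notation "R'" => A ⊗[k] k'
local notation "I₀" =>
  Ideal.map (Algebra.TensorProduct.includeLeft : A →ₐ[k] A ⊗[k] k') (maximalIdeal A)
local notation "C'" =>
  AdicCompletion (Ideal.map (Algebra.TensorProduct.includeLeft : A →ₐ[k] A ⊗[k] k')
    (maximalIdeal A)) (A ⊗[k] k')

variable (M : Ideal (AdicCompletion (Ideal.map (Algebra.TensorProduct.includeLeft : A →ₐ[k] A ⊗[k] k')
    (maximalIdeal A)) (A ⊗[k] k'))) [M.IsPrime]

theorem algebraMap_eq_toB (a : A) :
    algebraMap A (Localization.AtPrime M) a = toB k A k' M (a ⊗ₜ[k] 1) := rfl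

theorem finrank_fibre_le (hIM : (I₀).map (algebraMap R' C') ≤ M)
    [IsNoetherianRing (Localization.AtPrime M)]
    [IsAdicComplete (maximalIdeal (Localization.AtPrime M)) (Localization.AtPrime M)]
    [Algebra k' (Localization.AtPrime M)]
    (hk' : ∀ c : k', algebraMap k' (Localization.AtPrime M) c = toB k A k' M (1 ⊗ₜ[k] c))
    [Module.Finite k' (ResidueField (Localization.AtPrime M))]
    (P' : Ideal (Localization.AtPrime M)) [P'.IsPrime] (p : Ideal A) [p.IsPrime]
    (hpP : p = P'.comap (algebraMap A (Localization.AtPrime M))) (hp : p ≠ maximalIdeal A) :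
    Module.finrank p.ResidueField
        (p.ResidueField ⊗[A] AdicCompletion (maximalIdeal A) (Ω[A⁄k])) ≤
      Module.finrank P'.ResidueField (P'.ResidueField ⊗[Localization.AtPrime M]
        AdicCompletion (maximalIdeal (Localization.AtPrime M)) (Ω[Localization.AtPrime M⁄k'])) := by
  classical
  have hfinΩA := finite_omegaHat' k A
  have hfinΩB := finite_omegaHat' k' (Localization.AtPrime M)
  obtain ⟨t, -, hli⟩ := exists_basis_dHat k A p hp
  let b : Module.Basis _ p.ResidueField
      (p.ResidueField ⊗[A] AdicCompletion (maximalIdeal A) (Ω[A⁄k])) :=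
    basisOfLinearIndependentOfCardEqFinrank' _ hli (by rw [Fintype.card_fin])
  have hb : ∀ i, b i = (1 : p.ResidueField) ⊗ₜ[A] dHat k A (t i) := fun i => by
    simp [b]
  let σ : p.ResidueField →+* P'.ResidueField :=
    Ideal.ResidueField.map p P' (algebraMap A (Localization.AtPrime M)) hpP
  have hσalg : ∀ a : A, σ (algebraMap A p.ResidueField a) =
      algebraMap (Localization.AtPrime M) P'.ResidueField
        (algebraMap A (Localization.AtPrime M) a) :=
    fun a => Ideal.ResidueField.map_algebraMap p P' _ hpP a
  obtain ⟨s, g, hg⟩ := Module.Finite.exists_fin (R := A)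
    (M := AdicCompletion (maximalIdeal A) (Ω[A⁄k]))
  let lam : _ → (AdicCompletion (maximalIdeal A) (Ω[A⁄k]) →ₗ[A] p.ResidueField) := fun i =>
    ((b.coord i).restrictScalars A) ∘ₗ
      (TensorProduct.mk A p.ResidueField (AdicCompletion (maximalIdeal A) (Ω[A⁄k])) 1)
  have hlam : ∀ i ω, lam i ω = b.coord i ((1 : p.ResidueField) ⊗ₜ[A] ω) := fun i ω => rfl
  let N : Submodule (Localization.AtPrime M) P'.ResidueField :=
    Submodule.span (Localization.AtPrime M)
      (Set.range fun ij : _ × Fin s => σ (lam ij.1 (g ij.2)))
  have hNfin : Module.Finite (Localization.AtPrime M) N :=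
    Module.Finite.span_of_finite (Localization.AtPrime M) (Set.finite_range _)
  have hsm : ∀ i (a : A) (ω : AdicCompletion (maximalIdeal A) (Ω[A⁄k])),
      σ (lam i (a • ω)) = algebraMap A (Localization.AtPrime M) a • σ (lam i ω) := by
    intro i a ω
    rw [map_smul, Algebra.smul_def, map_mul, hσalg, ← Algebra.smul_def]
  have hmem : ∀ i (ω : AdicCompletion (maximalIdeal A) (Ω[A⁄k])), σ (lam i ω) ∈ N := by
    intro i ω
    have hω : ω ∈ Submodule.span A (Set.range g) := by rw [hg]; trivial
    induction hω using Submodule.span_induction with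
    | mem x hx =>
      obtain ⟨j, rfl⟩ := hx
      exact Submodule.subset_span ⟨(i, j), rfl⟩
    | zero => rw [map_zero, map_zero]; exact N.zero_mem
    | add x y _ _ hx hy => rw [map_add, map_add]; exact N.add_mem hx hy
    | smul a x _ hx =>
      rw [hsm]
      exact N.smul_mem _ hx
  have key : ∀ i, ∃ Φ : AdicCompletion (maximalIdeal (Localization.AtPrime M))
      (Ω[Localization.AtPrime M⁄k']) →ₗ[Localization.AtPrime M] P'.ResidueField,
      ∀ j, Φ (dHat k' (Localization.AtPrime M) (algebraMap A (Localization.AtPrime M) (t j))) =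
        if i = j then 1 else 0 := by
    intro i
    obtain ⟨D', h1, h2, h3, h4⟩ := exists_derivation_extension k A k' M hIM N
      (fun a => ⟨σ (lam i (dHat k A a)), hmem i _⟩)
      (by
        intro a c
        apply Subtype.ext
        change σ (lam i (dHat k A (a + c))) = σ (lam i (dHat k A a)) + σ (lam i (dHat k A c))
        rw [dHat_add, map_add, map_add])
      (by
        intro a c
        apply Subtype.ext
        change σ (lam i (dHat k A (a * c))) =
          algebraMap A (Localization.AtPrime M) a • σ (lam i (dHat k A c)) +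
            algebraMap A (Localization.AtPrime M) c • σ (lam i (dHat k A a))
        rw [dHat_mul, map_add, map_add, hsm, hsm])
      (by
        intro c
        apply Subtype.ext
        change σ (lam i (dHat k A (algebraMap k A c))) = 0
        have : dHat k A (algebraMap k A c) = 0 := by
          unfold dHat
          rw [Derivation.map_algebraMap, map_zero]
        rw [this, map_zero, map_zero])
    have hD1 : D' 1 = 0 := by
      have h := h2 1 1
      rw [mul_one, one_smul] at h
      exact left_eq_add.mp h
    let Dl : Localization.AtPrime M →ₗ[k'] N :=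
      { toFun := D'
        map_add' := h1
        map_smul' := fun c x => by
          rw [RingHom.id_apply, Algebra.smul_def, h2, hk', h3, smul_zero, add_zero, ← hk',
            algebraMap_smul] }
    let Dd : Derivation k' (Localization.AtPrime M) N := Derivation.mk' Dl h2
    obtain ⟨Φ, hΦ⟩ := exists_functional_of_derivation k' (Localization.AtPrime M) N Dd
    refine ⟨N.subtype ∘ₗ Φ, fun j => ?_⟩
    rw [LinearMap.comp_apply]
    unfold dHat
    rw [hΦ]
    change ((D' (toB k A k' M (t j ⊗ₜ[k] 1)) : N) : P'.ResidueField) = _
    rw [h4]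
    change σ (lam i (dHat k A (t j))) = _
    rw [hlam, ← hb, Module.Basis.coord_apply, Module.Basis.repr_self, Finsupp.single_apply]
    split_ifs with h h' h'
    · exact map_one σ
    · exact absurd h.symm h'
    · exact absurd h'.symm h
    · exact map_zero σ
  choose Φ hΦ using key
  have hLI : LinearIndependent P'.ResidueField
      (fun j => (1 : P'.ResidueField) ⊗ₜ[Localization.AtPrime M]
        dHat k' (Localization.AtPrime M) (algebraMap A (Localization.AtPrime M) (t j))) := by
    rw [Fintype.linearIndependent_iff]
    intro c hc i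
    have h := congrArg (LinearMap.liftBaseChange P'.ResidueField (Φ i)) hc
    rw [map_sum, map_zero] at h
    have h' : ∀ j, LinearMap.liftBaseChange P'.ResidueField (Φ i)
        (c j • ((1 : P'.ResidueField) ⊗ₜ[Localization.AtPrime M]
          dHat k' (Localization.AtPrime M) (algebraMap A (Localization.AtPrime M) (t j)))) =
        if i = j then c j else 0 := by
      intro j
      rw [map_smul, LinearMap.liftBaseChange_tmul, one_smul, hΦ, smul_eq_mul, mul_ite, mul_one,
        mul_zero]
    rw [Finset.sum_congr rfl (fun j _ => h' j), Finset.sum_ite_eq, if_pos (Finset.mem_univ i)] at h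
    exact h
  have h := hLI.fintype_card_le_finrank
  rwa [Fintype.card_fin] at h

end FR

end Groth.Agent.Lib.Helper88.CTensor
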