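import Mathlib
import Groth.Agent.Lib.Helper88.OmegaHat.GeomRegular
import Groth.Agent.Lib.Helper85.RegularLocal
import Groth.Agent.S0564
import Groth.Agent.S4990
import Groth.Agent.Lib.Helper48.CompleteLocalDomain

/-!
# Auxiliary lemmas for the completed tensor product (helper88)
-/

set_option autoImplicit false
set_option linter.unusedSectionVars false

universe u

namespace Groth.Agent.Lib.Helper88.CTensor

open IsLocalRing TensorProduct

/-- a regular local ring is a regular ring (Serre) -/
theorem isRegularRing_of_isRegularLocalRing (S : Type u) [CommRing S] [IsRegularLocalRing S] :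
    IsRegularRing S := by
  rw [isRegularRing_iff]
  intro P hP
  exact Groth.Agent.S0564.result S P

/-- over a perfect field, a regular ring is geometrically regular -/
theorem isGeometricallyRegular_of_perfectField (k' S : Type u) [Field k'] [PerfectField k']
    [CommRing S] [Algebra k' S] [IsRegularRing S] : CAlg.IsGeometricallyRegular k' S := by
  intro k'' _ _ hfin
  have hsep : Algebra.IsSeparable k' k'' := Algebra.IsAlgebraic.isSeparable_of_perfectField
  have hfe : Algebra.FormallyEtale k' k'' := Algebra.FormallyEtale.of_isSeparable k' k''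
  have hfp : Algebra.FinitePresentation k' k'' := Algebra.FinitePresentation.of_finiteType.mp
    inferInstance
  have het : Algebra.Etale k' k'' := ⟨hfe, hfp⟩
  have h1 : Algebra.Etale S (S ⊗[k'] k'') := inferInstance
  have h2 : Algebra.Smooth S (S ⊗[k'] k'') := inferInstance
  have hreg : IsRegularRing (S ⊗[k'] k'') :=
    Groth.Agent.Lib.Helper88.OmegaHat.isRegularRing_of_smooth S _
  exact IsRegularRing.of_ringEquiv (Algebra.TensorProduct.comm k' S k'').toRingEquiv

/-- dimension inequality for a local homomorphism of Noetherian local rings -/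
theorem ringKrullDim_le_add_of_isLocalHom {A B : Type*} [CommRing A] [CommRing B]
    [IsLocalRing A] [IsLocalRing B] [IsNoetherianRing A] [IsNoetherianRing B] (φ : A →+* B)
    [IsLocalHom φ] :
    ringKrullDim B ≤ ringKrullDim A +
      ringKrullDim (B ⧸ (IsLocalRing.maximalIdeal A).map φ) := by
  algebraize [φ]
  have hloc : IsLocalHom (algebraMap A B) := ‹IsLocalHom φ›
  have hover : (IsLocalRing.maximalIdeal B).LiesOver (IsLocalRing.maximalIdeal A) :=
    ⟨(IsLocalRing.maximalIdeal_comap (algebraMap A B)).symm⟩
  have heq := Ideal.height_le_height_add_of_liesOver (IsLocalRing.maximalIdeal A)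
    (IsLocalRing.maximalIdeal B)
  have hne : (IsLocalRing.maximalIdeal A).map (algebraMap A B) ≠ ⊤ := by
    intro h
    have h1 : (IsLocalRing.maximalIdeal A).map (algebraMap A B) ≤ IsLocalRing.maximalIdeal B :=
      Ideal.map_le_iff_le_comap.mpr (IsLocalRing.maximalIdeal_comap (algebraMap A B)).ge
    exact (IsLocalRing.maximalIdeal.isMaximal B).ne_top (top_le_iff.mp (h ▸ h1))
  have : Nontrivial (B ⧸ (IsLocalRing.maximalIdeal A).map (algebraMap A B)) :=
    Ideal.Quotient.nontrivial_iff.mpr hne
  have : IsLocalRing (B ⧸ (IsLocalRing.maximalIdeal A).map (algebraMap A B)) :=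
    IsLocalRing.of_surjective' (Ideal.Quotient.mk _) Ideal.Quotient.mk_surjective
  have hmax : (IsLocalRing.maximalIdeal B).map
      (Ideal.Quotient.mk ((IsLocalRing.maximalIdeal A).map (algebraMap A B))) =
      IsLocalRing.maximalIdeal (B ⧸ (IsLocalRing.maximalIdeal A).map (algebraMap A B)) := by
    have : IsLocalHom (Ideal.Quotient.mk ((IsLocalRing.maximalIdeal A).map (algebraMap A B))) :=
      IsLocalHom.of_surjective _ Ideal.Quotient.mk_surjective
    apply le_antisymm
    · exact Ideal.map_le_iff_le_comap.mpr (IsLocalRing.maximalIdeal_comap _).ge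
    · intro z hz
      obtain ⟨b, rfl⟩ := Ideal.Quotient.mk_surjective z
      refine Ideal.mem_map_of_mem _ ?_
      rw [← IsLocalRing.maximalIdeal_comap
        (Ideal.Quotient.mk ((IsLocalRing.maximalIdeal A).map (algebraMap A B)))]
      exact hz
  rw [hmax] at heq
  rw [← IsLocalRing.maximalIdeal_height_eq_ringKrullDim,
    ← IsLocalRing.maximalIdeal_height_eq_ringKrullDim]
  change _ ≤ _ + ringKrullDim (B ⧸ (IsLocalRing.maximalIdeal A).map (algebraMap A B))
  rw [← IsLocalRing.maximalIdeal_height_eq_ringKrullDim]
  exact_mod_cast heq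

/-- cancellation in `WithBot ℕ∞` -/
theorem eq_zero_of_natCast_add_eq (d : ℕ) (x : WithBot ℕ∞) (h : (d : WithBot ℕ∞) + x = d) :
    x = 0 := by
  induction x using WithBot.recBotCoe with
  | bot => simp at h
  | coe y =>
    induction y using ENat.recTopCoe with
    | top =>
      exfalso
      have h1 : ((d : ℕ∞) : WithBot ℕ∞) + ((⊤ : ℕ∞) : WithBot ℕ∞) = ((d : ℕ∞) : WithBot ℕ∞) := h
      rw [← WithBot.coe_add, WithBot.coe_inj, add_top] at h1
      exact ENat.top_ne_natCast d h1
    | coe m =>
      have h1 : (((d + m : ℕ) : ℕ∞) : WithBot ℕ∞) = ((d : ℕ∞) : WithBot ℕ∞) := by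
        have h2 : ((d : ℕ∞) : WithBot ℕ∞) + ((m : ℕ∞) : WithBot ℕ∞) = ((d : ℕ∞) : WithBot ℕ∞) := h
        rw [← h2]; push_cast; rfl
      rw [WithBot.coe_inj, Nat.cast_inj] at h1
      have : m = 0 := by omega
      subst this
      rfl

section Fibre

variable {A B : Type u} [CommRing A] [CommRing B] [IsLocalRing A] [IsLocalRing B]
  [IsNoetherianRing A] [IsNoetherianRing B] [Algebra A B] [IsLocalHom (algebraMap A B)]

/-- a flat local homomorphism preserving the dimension has a zero-dimensional closed fibre -/
theorem ringKrullDim_fibre_eq_zero [Module.Flat A B] (h : ringKrullDim B = ringKrullDim A) :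
    ringKrullDim (B ⧸ (maximalIdeal A).map (algebraMap A B)) = 0 := by
  obtain ⟨d, -, hd, -, -⟩ := Groth.Agent.Lib.Helper48.exists_sop A
  have h1 := Groth.Agent.S4990.ringKrullDim_eq_add_of_flat (algebraMap A B)
    (RingHom.flat_algebraMap_iff.mpr inferInstance)
  rw [h, ← hd] at h1
  exact eq_zero_of_natCast_add_eq d _ h1.symm

/-- the dimension of `B / q'` is at most that of `A / (q' ∩ A)` when the closed fibre has
dimension zero -/
theorem ringKrullDim_quotient_le_of_fibre
    (hfib : ringKrullDim (B ⧸ (maximalIdeal A).map (algebraMap A B)) = 0)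
    (q' : Ideal B) [q'.IsPrime] :
    ringKrullDim (B ⧸ q') ≤ ringKrullDim (A ⧸ q'.comap (algebraMap A B)) := by
  set q₀ := q'.comap (algebraMap A B) with hq₀
  have hq₀prime : q₀.IsPrime := Ideal.comap_isPrime _ _
  have hlocA : IsLocalRing (A ⧸ q₀) :=
    IsLocalRing.of_surjective' (Ideal.Quotient.mk q₀) Ideal.Quotient.mk_surjective
  have hlocB : IsLocalRing (B ⧸ q') :=
    IsLocalRing.of_surjective' (Ideal.Quotient.mk q') Ideal.Quotient.mk_surjective
  let φ : A ⧸ q₀ →+* B ⧸ q' := Ideal.quotientMap q' (algebraMap A B) le_rfl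
  have hφ : ∀ a, φ (Ideal.Quotient.mk q₀ a) = Ideal.Quotient.mk q' (algebraMap A B a) :=
    fun a => Ideal.quotientMap_mk
  have hlocmkA : IsLocalHom (Ideal.Quotient.mk q₀) :=
    IsLocalHom.of_surjective _ Ideal.Quotient.mk_surjective
  have hlocmkB : IsLocalHom (Ideal.Quotient.mk q') :=
    IsLocalHom.of_surjective _ Ideal.Quotient.mk_surjective
  have hφloc : IsLocalHom φ := by
    constructor
    intro x hx
    obtain ⟨a, rfl⟩ := Ideal.Quotient.mk_surjective x
    rw [hφ] at hx
    have h1 : IsUnit (algebraMap A B a) := hlocmkB.map_nonunit _ hx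
    have h2 : IsUnit a := (inferInstance : IsLocalHom (algebraMap A B)).map_nonunit _ h1
    exact h2.map _
  have h1 := ringKrullDim_le_add_of_isLocalHom φ
  have hmA : maximalIdeal (A ⧸ q₀) = (maximalIdeal A).map (Ideal.Quotient.mk q₀) := by
    apply le_antisymm
    · intro z hz
      obtain ⟨a, rfl⟩ := Ideal.Quotient.mk_surjective z
      refine Ideal.mem_map_of_mem _ ?_
      rw [← IsLocalRing.maximalIdeal_comap (Ideal.Quotient.mk q₀)]
      exact hz
    · exact Ideal.map_le_iff_le_comap.mpr (IsLocalRing.maximalIdeal_comap _).ge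
  -- the fibre is a quotient of the closed fibre of `A → B`
  let ψ : B ⧸ (maximalIdeal A).map (algebraMap A B) →+*
      (B ⧸ q') ⧸ (maximalIdeal (A ⧸ q₀)).map φ :=
    Ideal.Quotient.lift _ ((Ideal.Quotient.mk _).comp (Ideal.Quotient.mk q')) (by
      intro b hb
      rw [RingHom.comp_apply, Ideal.Quotient.eq_zero_iff_mem]
      have h2 : (maximalIdeal A).map (algebraMap A B) ≤
          ((maximalIdeal (A ⧸ q₀)).map φ).comap (Ideal.Quotient.mk q') := by
        rw [Ideal.map_le_iff_le_comap]
        intro a ha
        rw [Ideal.mem_comap, Ideal.mem_comap, ← hφ]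
        refine Ideal.mem_map_of_mem _ ?_
        rw [hmA]
        exact Ideal.mem_map_of_mem _ ha
      exact h2 hb)
  have hψ : Function.Surjective ψ := by
    intro z
    obtain ⟨z, rfl⟩ := Ideal.Quotient.mk_surjective z
    obtain ⟨b, rfl⟩ := Ideal.Quotient.mk_surjective z
    exact ⟨Ideal.Quotient.mk _ b, rfl⟩
  have h3 := ringKrullDim_le_of_surjective ψ hψ
  rw [hfib] at h3
  calc ringKrullDim (B ⧸ q') ≤ ringKrullDim (A ⧸ q₀) +
        ringKrullDim ((B ⧸ q') ⧸ (maximalIdeal (A ⧸ q₀)).map φ) := h1
    _ ≤ ringKrullDim (A ⧸ q₀) + 0 := by gcongr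
    _ = ringKrullDim (A ⧸ q₀) := add_zero _

end Fibre

section Domain

variable {A B : Type u} [CommRing A] [CommRing B] [Algebra A B] [Module.Flat A B]

/-- descent of the domain property along a flat map, at primes -/
theorem isDomain_atPrime_of_flat (P' : Ideal B) [P'.IsPrime] (p : Ideal A) [p.IsPrime]
    (hpP : p = P'.comap (algebraMap A B)) [IsDomain (Localization.AtPrime P')] :
    IsDomain (Localization.AtPrime p) := by
  let f : Localization.AtPrime p →+* Localization.AtPrime P' :=
    Localization.localRingHom p P' (algebraMap A B) hpP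
  let _ : Algebra (Localization.AtPrime p) (Localization.AtPrime P') := f.toAlgebra
  have htower : IsScalarTower A (Localization.AtPrime p) (Localization.AtPrime P') := by
    refine IsScalarTower.of_algebraMap_eq (fun a => ?_)
    change _ = f (algebraMap A (Localization.AtPrime p) a)
    rw [Localization.localRingHom_to_map, ← IsScalarTower.algebraMap_apply]
  have hflat : Module.Flat (Localization.AtPrime p) (Localization.AtPrime P') :=
    (Module.flat_iff_of_isLocalization (Localization.AtPrime p) p.primeCompl
      (Localization.AtPrime P')).mpr inferInstance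
  have hloc : IsLocalHom (algebraMap (Localization.AtPrime p) (Localization.AtPrime P')) :=
    Localization.isLocalHom_localRingHom p P' (algebraMap A B) hpP
  have hff : Module.FaithfullyFlat (Localization.AtPrime p) (Localization.AtPrime P') :=
    Module.FaithfullyFlat.of_flat_of_isLocalHom
  exact Function.Injective.isDomain (algebraMap (Localization.AtPrime p) (Localization.AtPrime P'))
    (FaithfulSMul.algebraMap_injective _ _)

end Domain

section LocLoc

variable {C' : Type u} [CommRing C'] (M p' : Ideal C') [M.IsPrime] [p'.IsPrime]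

/-- the prime of `C'_M` generated by a prime `p' ≤ M`; its local ring is that of `p'` -/
theorem isRegularLocalRing_atPrime_map (h : p' ≤ M)
    [IsRegularLocalRing (Localization.AtPrime p')] :
    ∃ _ : (p'.map (algebraMap C' (Localization.AtPrime M))).IsPrime,
      IsRegularLocalRing (Localization.AtPrime (p'.map (algebraMap C' (Localization.AtPrime M)))) ∧
      (p'.map (algebraMap C' (Localization.AtPrime M))).comap
        (algebraMap C' (Localization.AtPrime M)) = p' := by
  have hd : Disjoint (M.primeCompl : Set C') (p' : Set C') := by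
    rw [Set.disjoint_left]
    intro a ha hap
    exact ha (h hap)
  have hP' : (p'.map (algebraMap C' (Localization.AtPrime M))).IsPrime :=
    IsLocalization.isPrime_of_isPrime_disjoint M.primeCompl _ p' inferInstance hd
  have hcomap : (p'.map (algebraMap C' (Localization.AtPrime M))).comap
      (algebraMap C' (Localization.AtPrime M)) = p' :=
    IsLocalization.under_map_of_isPrime_disjoint M.primeCompl _ inferInstance hd
  refine ⟨hP', ?_, hcomap⟩
  have loc2 : IsLocalization.AtPrime
      (Localization.AtPrime (p'.map (algebraMap C' (Localization.AtPrime M))))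
      ((p'.map (algebraMap C' (Localization.AtPrime M))).comap
        (algebraMap C' (Localization.AtPrime M))) :=
    IsLocalization.isLocalization_isLocalization_atPrime_isLocalization
      M.primeCompl (Localization.AtPrime (p'.map (algebraMap C' (Localization.AtPrime M))))
      (p'.map (algebraMap C' (Localization.AtPrime M)))
  have key : ∀ (I : Ideal C') [I.IsPrime],
      I = (p'.map (algebraMap C' (Localization.AtPrime M))).comap
        (algebraMap C' (Localization.AtPrime M)) →
      IsLocalization.AtPrime
        (Localization.AtPrime (p'.map (algebraMap C' (Localization.AtPrime M)))) I := by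
    intro I _ hI
    subst hI
    exact loc2
  have loc3 := key p' hcomap.symm
  let e := IsLocalization.algEquiv p'.primeCompl (Localization.AtPrime p')
    (Localization.AtPrime (p'.map (algebraMap C' (Localization.AtPrime M))))
  exact IsRegularLocalRing.of_ringEquiv e.toRingEquiv

end LocLoc

end Groth.Agent.Lib.Helper88.CTensor
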