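import Mathlib
import Groth.Agent.Lib.Helper88.CTensor.FibreRank
import Groth.Agent.Lib.Helper88.CTensor.Misc
import Groth.Agent.Lib.Helper88.OmegaHat.FreeOfFibre
import Groth.Agent.Lib.Helper88.OmegaHat.FibreRank
import Groth.Agent.S5993
import Groth.Agent.S5074

/-!
# (a') ⇒ (b): regularity after a perfect completed base change gives freeness of `Ω̂_p` (helper88)
-/

set_option autoImplicit false
set_option linter.unusedSectionVars false
set_option linter.style.haveILetI false

universe u

namespace Groth.Agent.Lib.Helper88.CTensor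

open IsLocalRing TensorProduct Groth.Agent.Lib.Helper88.OmegaHat

section ResFin

variable {k' C' : Type u} [Field k'] [CommRing C'] (M : Ideal C') [M.IsMaximal]

/-- residue field finiteness for the localization at a maximal ideal -/
theorem finite_residueField_atPrime (ι : k' →+* C')
    (h : ((Ideal.Quotient.mk M).comp ι).Finite) :
    letI : Algebra k' (Localization.AtPrime M) :=
      ((algebraMap C' (Localization.AtPrime M)).comp ι).toAlgebra
    Module.Finite k' (ResidueField (Localization.AtPrime M)) := by
  letI : Algebra k' (Localization.AtPrime M) :=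
    ((algebraMap C' (Localization.AtPrime M)).comp ι).toAlgebra
  let e := IsLocalization.AtPrime.equivQuotMaximalIdeal M (Localization.AtPrime M)
  have h1 : (e.toRingHom.comp ((Ideal.Quotient.mk M).comp ι)).Finite :=
    RingHom.Finite.comp (RingHom.Finite.of_surjective _ e.surjective) h
  have h2 : algebraMap k' (ResidueField (Localization.AtPrime M)) =
      e.toRingHom.comp ((Ideal.Quotient.mk M).comp ι) := by
    ext c
    change residue _ (algebraMap C' (Localization.AtPrime M) (ι c)) = e (Ideal.Quotient.mk M (ι c))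
    rw [IsLocalization.AtPrime.equivQuotMaximalIdeal_apply_mk]
    rfl
  rw [← h2] at h1
  exact RingHom.finite_algebraMap.mp h1

end ResFin

section Main

variable (k A : Type u) [Field k] [CommRing A] [IsLocalRing A] [IsNoetherianRing A] [Algebra k A]
  [IsAdicComplete (maximalIdeal A) A] [Module.Finite k (ResidueField A)]
  (p : Ideal A) [p.IsPrime]

local notation "Cc[" k' "]" =>
  AdicCompletion (Ideal.map (Algebra.TensorProduct.includeLeft : A →ₐ[k] A ⊗[k] k')
    (maximalIdeal A)) (A ⊗[k] k')

theorem free_of_regular_perfect (hp : p ≠ maximalIdeal A)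
    (n : ℕ) (hn₁ : ∀ q ∈ minimalPrimes A, q ≤ p → ringKrullDim (A ⧸ q) ≤ n)
    (hn₂ : ∃ q ∈ minimalPrimes A, q ≤ p ∧ ringKrullDim (A ⧸ q) = n)
    (k' : Type u) [Field k'] [Algebra k k'] [PerfectField k']
    (p' : Ideal (AdicCompletion ((maximalIdeal A).map
      (Algebra.TensorProduct.includeLeft : A →ₐ[k] A ⊗[k] k')) (A ⊗[k] k'))) [p'.IsPrime]
    (hp' : (p'.comap (algebraMap (A ⊗[k] k') _)).comap
        (Algebra.TensorProduct.includeLeft : A →ₐ[k] A ⊗[k] k').toRingHom = p)
    (hreg : IsRegularLocalRing (Localization.AtPrime p')) :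
    Module.Free (Localization.AtPrime p)
        (LocalizedModule p.primeCompl (AdicCompletion (maximalIdeal A) (Ω[A⁄k]))) ∧
      Module.finrank (Localization.AtPrime p)
        (LocalizedModule p.primeCompl (AdicCompletion (maximalIdeal A) (Ω[A⁄k]))) = n := by
  classical
  obtain ⟨hNoeth, -, hcompl, hM⟩ := Groth.Agent.S5993.result k A k'
    ((maximalIdeal A).map (Algebra.TensorProduct.includeLeft : A →ₐ[k] A ⊗[k] k')) rfl
  obtain ⟨M, hMmax, hp'M⟩ := Ideal.exists_le_maximal p' (Ideal.IsPrime.ne_top inferInstance)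
  have hMprime : M.IsPrime := hMmax.isPrime
  obtain ⟨hBcompl, hBff, hBdim, hBres⟩ := hM ⟨M, hMmax⟩
  change IsAdicComplete (maximalIdeal (Localization.AtPrime M)) (Localization.AtPrime M) at hBcompl
  change Module.FaithfullyFlat A (Localization.AtPrime M) at hBff
  change ringKrullDim (Localization.AtPrime M) = ringKrullDim A at hBdim
  have hBNoeth : IsNoetherianRing (Localization.AtPrime M) :=
    IsLocalization.isNoetherianRing M.primeCompl _ hNoeth
  -- `𝔪_A C' ≤ M`
  have hIM : ((maximalIdeal A).map
      (Algebra.TensorProduct.includeLeft : A →ₐ[k] A ⊗[k] k')).map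
      (algebraMap (A ⊗[k] k') _) ≤ M := by
    have h1 : ((maximalIdeal A).map
        (Algebra.TensorProduct.includeLeft : A →ₐ[k] A ⊗[k] k')).map
        (algebraMap (A ⊗[k] k') (AdicCompletion ((maximalIdeal A).map
          (Algebra.TensorProduct.includeLeft : A →ₐ[k] A ⊗[k] k')) (A ⊗[k] k'))) =
        (maximalIdeal A).map (algebraMap A _) := by
      change ((maximalIdeal A).map (algebraMap A (A ⊗[k] k'))).map _ = _
      rw [Ideal.map_map]
      rfl
    rw [h1]
    refine (IsAdicComplete.le_jacobson_bot _).trans ?_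
    exact sInf_le ⟨bot_le, hMmax⟩
  -- the `k'`-algebra structure
  letI algk' : Algebra k' (Localization.AtPrime M) :=
    ((algebraMap (Cc[k']) (Localization.AtPrime M)).comp
      ((algebraMap (A ⊗[k] k') (Cc[k'])).comp
        (Algebra.TensorProduct.includeRight : k' →ₐ[k] A ⊗[k] k').toRingHom)).toAlgebra
  have hk' : ∀ c : k', algebraMap k' (Localization.AtPrime M) c = toB k A k' M (1 ⊗ₜ[k] c) :=
    fun c => rfl
  have hresfin : Module.Finite k' (ResidueField (Localization.AtPrime M)) :=
    finite_residueField_atPrime M _ hBres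
  -- the prime `P'`
  obtain ⟨hP'prime, hP'reg, hP'comap⟩ := isRegularLocalRing_atPrime_map M p' hp'M
  set P' := p'.map (algebraMap (Cc[k']) (Localization.AtPrime M)) with hP'def
  have hpP : p = P'.comap (algebraMap A (Localization.AtPrime M)) := by
    rw [← hp', ← hP'comap]
    rfl
  -- geometric regularity
  have hregring : IsRegularRing (Localization.AtPrime P') :=
    isRegularRing_of_isRegularLocalRing _
  have hGR : CAlg.IsGeometricallyRegular k' (Localization.AtPrime P') :=
    isGeometricallyRegular_of_perfectField k' _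
  -- the minimal prime `q'`
  obtain ⟨q', hq'min, hq'P'⟩ := Ideal.exists_minimalPrimes_le (bot_le : ⊥ ≤ P')
  have hq'prime : q'.IsPrime := hq'min.1.1
  have hlocBq : IsLocalRing (Localization.AtPrime M ⧸ q') :=
    IsLocalRing.of_surjective' (Ideal.Quotient.mk q') Ideal.Quotient.mk_surjective
  obtain ⟨n', -, hn', -, -⟩ := Groth.Agent.Lib.Helper48.exists_sop (Localization.AtPrime M ⧸ q')
  -- apply S5074
  obtain ⟨p₀, hp₀⟩ := ExpChar.exists k'
  have hfrob : (frobenius k' p₀).Finite :=
    RingHom.Finite.of_surjective _ (bijective_frobenius k' p₀).2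
  obtain ⟨hfreeB, hrankB⟩ := Groth.Agent.S5074.result p₀ k' (Localization.AtPrime M) hfrob P' hGR
    q' hq'min hq'P' n' hn'.symm
  -- fibre rank at `P'`
  have hfinΩB := finite_omegaHat' k' (Localization.AtPrime M)
  have hfibB : Module.finrank P'.ResidueField (P'.ResidueField ⊗[Localization.AtPrime M]
      AdicCompletion (maximalIdeal (Localization.AtPrime M)) (Ω[Localization.AtPrime M⁄k'])) ≤ n' := by
    let bB := Module.finBasisOfFinrankEq (Localization.AtPrime P')
      (LocalizedModule P'.primeCompl
        (AdicCompletion (maximalIdeal (Localization.AtPrime M)) (Ω[Localization.AtPrime M⁄k'])))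
      hrankB
    exact finrank_fibre_le_of_span_localized P' _ n' bB bB.span_eq
  -- fibre rank comparison
  have hFR := finrank_fibre_le k A k' M hIM hk' P' p hpP hp
  -- `A_p` is a domain
  have hdomB : IsDomain (Localization.AtPrime P') :=
    Groth.Agent.Lib.Helper85.isDomain_of_isRegularLocalRing _
  have hflat : Module.Flat A (Localization.AtPrime M) := inferInstance
  have hdomA : IsDomain (Localization.AtPrime p) := isDomain_atPrime_of_flat P' p hpP
  -- the minimal prime under `p`
  obtain ⟨q, hqmin, hqp, hqdim⟩ := hn₂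
  have hqprime : q.IsPrime := hqmin.1.1
  set q₀ := q'.comap (algebraMap A (Localization.AtPrime M)) with hq₀
  have hq₀prime : q₀.IsPrime := Ideal.comap_isPrime _ _
  have hq₀p : q₀ ≤ p := by
    rw [hpP]
    exact Ideal.comap_mono hq'P'
  have hqq₀ : q ≤ q₀ := by
    obtain ⟨q₁, hq₁min, hq₁le⟩ := Ideal.exists_minimalPrimes_le (bot_le : ⊥ ≤ q₀)
    have : q₁ = q := by
      ext a
      rw [← algebraMap_atPrime_eq_zero_iff p q₁ hq₁min (hq₁le.trans hq₀p) a,
        ← algebraMap_atPrime_eq_zero_iff p q hqmin hqp a]
    rw [← this]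
    exact hq₁le
  -- dimension inequality
  have hlocAB : IsLocalHom (algebraMap A (Localization.AtPrime M)) := by
    constructor
    intro a ha
    by_contra hna
    have h1 : a ∈ maximalIdeal A := (mem_maximalIdeal a).mpr hna
    have h2 : algebraMap A (Localization.AtPrime M) a ∈ maximalIdeal (Localization.AtPrime M) := by
      have h3 : algebraMap (A ⊗[k] k') (Cc[k']) ((Algebra.TensorProduct.includeLeft :
          A →ₐ[k] A ⊗[k] k') a) ∈ M :=
        hIM (Ideal.mem_map_of_mem _ (Ideal.mem_map_of_mem _ h1))
      exact (IsLocalization.AtPrime.to_map_mem_maximal_iff _ M _).mpr h3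
    exact (mem_maximalIdeal _).mp h2 ha
  have hfib0 := ringKrullDim_fibre_eq_zero (A := A) (B := Localization.AtPrime M) hBdim
  have hdim1 := ringKrullDim_quotient_le_of_fibre (A := A) (B := Localization.AtPrime M) hfib0 q'
  have hdim2 : ringKrullDim (A ⧸ q₀) ≤ ringKrullDim (A ⧸ q) :=
    ringKrullDim_le_of_surjective (Ideal.Quotient.factor hqq₀) (Ideal.Quotient.factor_surjective hqq₀)
  have hn'n : n' ≤ n := by
    have h1 : (n' : WithBot ℕ∞) ≤ (n : WithBot ℕ∞) := by
      rw [hn', ← hqdim]
      exact hdim1.trans hdim2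
    exact_mod_cast h1
  -- conclusion
  have hfinΩA := finite_omegaHat' k A
  refine free_localized_of_fibre_rank p q hqmin hqp _ n ((hFR.trans hfibB).trans hn'n) ?_
  have h1 := fibre_rank_ge k A q q hqmin le_rfl
  rw [hqdim, ← Module.finrank_eq_rank, Cardinal.toENat_nat] at h1
  exact_mod_cast h1

end Main

end Groth.Agent.Lib.Helper88.CTensor
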