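import Mathlib
import Groth.Agent.Lib.Helper88.CTensor.BtoAGen
import Groth.Agent.Lib.Helper75.CompletedModules

/-!
# The ring `k'[[T]] ⊗_{k[[T]]} A₁` (helper88)

`A₁` a Noetherian local ring, finite over `P = k[[T_1..T_n]]` by a local homomorphism.
* `R₂ = k'[[T]] ⊗_P A₁` is complete for the ideal generated by `𝔪_{A₁}`.
* if `A₁[1/f]` is étale over `P` then the local rings of `R₂` at the primes not containing
  `1 ⊗ f` are regular.
-/

set_option autoImplicit false
set_option linter.unusedSectionVars false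
set_option linter.style.haveILetI false

universe u

namespace Groth.Agent.Lib.Helper88.CTensor

open IsLocalRing TensorProduct MvPowerSeries

section

variable (k : Type u) [Field k] (k' : Type u) [Field k'] [Algebra k k'] (n : ℕ)
  (A₁ : Type u) [CommRing A₁] [Algebra (MvPowerSeries (Fin n) k) A₁]

theorem isAdicComplete_mvPowerSeries' :
    IsAdicComplete (maximalIdeal (MvPowerSeries (Fin n) k')) (MvPowerSeries (Fin n) k') := by
  have : IsAdicComplete (maximalIdeal k') k' := by
    rw [IsLocalRing.maximalIdeal_eq_bot]; infer_instance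
  exact Groth.Agent.Lib.Helper58.MvPSComplete.isAdicComplete

/-- moving an element of `P` across the tensor product -/
theorem one_tmul_algebraMap (f : MvPowerSeries (Fin n) k) :
    (1 : MvPowerSeries (Fin n) k') ⊗ₜ[MvPowerSeries (Fin n) k]
      (algebraMap (MvPowerSeries (Fin n) k) A₁ f) =
    (MvPowerSeries.map (algebraMap k k') f) ⊗ₜ[MvPowerSeries (Fin n) k] (1 : A₁) := by
  rw [Algebra.algebraMap_eq_smul_one, ← TensorProduct.smul_tmul, Algebra.smul_def, mul_one]
  rfl

theorem isAdicComplete_tensor [IsLocalRing A₁] [IsNoetherianRing A₁]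
    [Module.Finite (MvPowerSeries (Fin n) k) A₁]
    (hloc : IsLocalHom (algebraMap (MvPowerSeries (Fin n) k) A₁)) :
    IsAdicComplete ((maximalIdeal A₁).map
      (Algebra.TensorProduct.includeRight : A₁ →ₐ[MvPowerSeries (Fin n) k]
        MvPowerSeries (Fin n) k' ⊗[MvPowerSeries (Fin n) k] A₁).toRingHom)
      (MvPowerSeries (Fin n) k' ⊗[MvPowerSeries (Fin n) k] A₁) := by
  have hP'compl := isAdicComplete_mvPowerSeries' k' n
  have hc : IsAdicComplete (maximalIdeal (MvPowerSeries (Fin n) k'))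
      (MvPowerSeries (Fin n) k' ⊗[MvPowerSeries (Fin n) k] A₁) :=
    Groth.Agent.Lib.Helper75.CompletedModules.isAdicComplete_of_finite
      (A := MvPowerSeries (Fin n) k') (M := MvPowerSeries (Fin n) k' ⊗[MvPowerSeries (Fin n) k] A₁)
  have hJ : IsAdicComplete ((maximalIdeal (MvPowerSeries (Fin n) k')).map
      (algebraMap (MvPowerSeries (Fin n) k')
        (MvPowerSeries (Fin n) k' ⊗[MvPowerSeries (Fin n) k] A₁)))
      (MvPowerSeries (Fin n) k' ⊗[MvPowerSeries (Fin n) k] A₁) :=
    (IsAdicComplete.map_algebraMap_iff (maximalIdeal (MvPowerSeries (Fin n) k'))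
      (MvPowerSeries (Fin n) k' ⊗[MvPowerSeries (Fin n) k] A₁)).mpr hc
  have hXmem : ∀ i, algebraMap (MvPowerSeries (Fin n) k) A₁ (X i) ∈ maximalIdeal A₁ := by
    intro i
    rw [mem_maximalIdeal, mem_nonunits_iff]
    intro hu
    have h1 : IsUnit (X i : MvPowerSeries (Fin n) k) := hloc.map_nonunit _ hu
    rw [MvPowerSeries.isUnit_iff_constantCoeff] at h1
    simp at h1
  have hle : (maximalIdeal (MvPowerSeries (Fin n) k')).map
      (algebraMap (MvPowerSeries (Fin n) k')
        (MvPowerSeries (Fin n) k' ⊗[MvPowerSeries (Fin n) k] A₁)) ≤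
      (maximalIdeal A₁).map
      (Algebra.TensorProduct.includeRight : A₁ →ₐ[MvPowerSeries (Fin n) k]
        MvPowerSeries (Fin n) k' ⊗[MvPowerSeries (Fin n) k] A₁).toRingHom := by
    rw [Groth.Agent.Lib.Helper90.PSIdeal.maximalIdeal_eq_span_X, Ideal.map_span, Ideal.span_le]
    rintro _ ⟨_, ⟨i, rfl⟩, rfl⟩
    have h1 : algebraMap (MvPowerSeries (Fin n) k')
        (MvPowerSeries (Fin n) k' ⊗[MvPowerSeries (Fin n) k] A₁) (X i) =
        (Algebra.TensorProduct.includeRight : A₁ →ₐ[MvPowerSeries (Fin n) k]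
          MvPowerSeries (Fin n) k' ⊗[MvPowerSeries (Fin n) k] A₁).toRingHom
          (algebraMap (MvPowerSeries (Fin n) k) A₁ (X i)) := by
      change (X i : MvPowerSeries (Fin n) k') ⊗ₜ[MvPowerSeries (Fin n) k] (1 : A₁) =
        (1 : MvPowerSeries (Fin n) k') ⊗ₜ[MvPowerSeries (Fin n) k]
          (algebraMap (MvPowerSeries (Fin n) k) A₁ (X i))
      rw [one_tmul_algebraMap, MvPowerSeries.map_X]
    rw [SetLike.mem_coe, h1]
    exact Ideal.mem_map_of_mem _ (hXmem i)
  obtain ⟨N, hN⟩ := exists_pow_maximalIdeal_le (MvPowerSeries (Fin n) k) A₁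
  have hpow : ((maximalIdeal A₁).map
      (Algebra.TensorProduct.includeRight : A₁ →ₐ[MvPowerSeries (Fin n) k]
        MvPowerSeries (Fin n) k' ⊗[MvPowerSeries (Fin n) k] A₁).toRingHom) ^ N ≤
      (maximalIdeal (MvPowerSeries (Fin n) k')).map
      (algebraMap (MvPowerSeries (Fin n) k')
        (MvPowerSeries (Fin n) k' ⊗[MvPowerSeries (Fin n) k] A₁)) := by
    rw [← Ideal.map_pow]
    refine (Ideal.map_mono hN).trans ?_
    rw [Ideal.map_map, Ideal.map_le_iff_le_comap]
    intro f hf
    rw [Ideal.mem_comap, RingHom.comp_apply]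
    change (1 : MvPowerSeries (Fin n) k') ⊗ₜ[MvPowerSeries (Fin n) k]
      (algebraMap (MvPowerSeries (Fin n) k) A₁ f) ∈ _
    rw [one_tmul_algebraMap]
    have h2 : MvPowerSeries.map (algebraMap k k') f ∈ maximalIdeal (MvPowerSeries (Fin n) k') := by
      rw [mem_maximalIdeal, mem_nonunits_iff, MvPowerSeries.isUnit_iff_constantCoeff] at hf ⊢
      rw [MvPowerSeries.constantCoeff_map]
      rw [isUnit_iff_ne_zero, not_not] at hf ⊢
      rw [hf, map_zero]
    exact Ideal.mem_map_of_mem (algebraMap (MvPowerSeries (Fin n) k')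
      (MvPowerSeries (Fin n) k' ⊗[MvPowerSeries (Fin n) k] A₁)) h2
  exact isAdicComplete_of_pow_le _ _ hle N hpow

/-- regularity of the local rings of `k'[[T]] ⊗_P A₁` on the étale locus -/
theorem isRegularLocalRing_tensor_atPrime (f : A₁)
    [Algebra.Etale (MvPowerSeries (Fin n) k) (Localization.Away f)]
    (p₂ : Ideal (MvPowerSeries (Fin n) k' ⊗[MvPowerSeries (Fin n) k] A₁)) [p₂.IsPrime]
    (hf : (1 : MvPowerSeries (Fin n) k') ⊗ₜ[MvPowerSeries (Fin n) k] f ∉ p₂) :
    IsRegularLocalRing (Localization.AtPrime p₂) := by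
  have hregP' : IsRegularRing (MvPowerSeries (Fin n) k') :=
    Groth.Agent.Lib.Helper73.RegularRing.isRegularRing_mvPowerSeries k' n
  have hS : IsRegularRing (MvPowerSeries (Fin n) k' ⊗[MvPowerSeries (Fin n) k]
      Localization.Away f) :=
    Groth.Agent.Lib.Helper88.OmegaHat.isRegularRing_of_smooth (MvPowerSeries (Fin n) k') _
  let g : MvPowerSeries (Fin n) k' ⊗[MvPowerSeries (Fin n) k] A₁ →ₐ[MvPowerSeries (Fin n) k']
      MvPowerSeries (Fin n) k' ⊗[MvPowerSeries (Fin n) k] Localization.Away f :=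
    Algebra.TensorProduct.map (AlgHom.id (MvPowerSeries (Fin n) k') (MvPowerSeries (Fin n) k'))
      (IsScalarTower.toAlgHom (MvPowerSeries (Fin n) k) A₁ (Localization.Away f))
  letI : Algebra (MvPowerSeries (Fin n) k' ⊗[MvPowerSeries (Fin n) k] A₁)
      (MvPowerSeries (Fin n) k' ⊗[MvPowerSeries (Fin n) k] Localization.Away f) :=
    g.toRingHom.toAlgebra
  have hst : IsScalarTower (MvPowerSeries (Fin n) k')
      (MvPowerSeries (Fin n) k' ⊗[MvPowerSeries (Fin n) k] A₁)
      (MvPowerSeries (Fin n) k' ⊗[MvPowerSeries (Fin n) k] Localization.Away f) :=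
    IsScalarTower.of_algebraMap_eq' g.comp_algebraMap.symm
  have hloc : IsLocalization ((Submonoid.powers f).map
      (Algebra.TensorProduct.includeRight (R := MvPowerSeries (Fin n) k)
        (A := MvPowerSeries (Fin n) k')))
      (MvPowerSeries (Fin n) k' ⊗[MvPowerSeries (Fin n) k] Localization.Away f) := by
    refine IsLocalization.tensorProduct_tensorProduct_right (MvPowerSeries (Fin n) k)
      (MvPowerSeries (Fin n) k') (Submonoid.powers f) (Localization.Away f) ?_
    ext x
    simp [RingHom.algebraMap_toAlgebra, g]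
  refine isRegularLocalRing_atPrime_of_isLocalization
    (S := MvPowerSeries (Fin n) k' ⊗[MvPowerSeries (Fin n) k] Localization.Away f)
    ((Submonoid.powers f).map
      (Algebra.TensorProduct.includeRight (R := MvPowerSeries (Fin n) k)
        (A := MvPowerSeries (Fin n) k'))) p₂ ?_
  rw [Set.disjoint_left]
  rintro _ ⟨_, ⟨m, rfl⟩, rfl⟩ hmem
  apply hf
  have h1 : (Algebra.TensorProduct.includeRight (R := MvPowerSeries (Fin n) k)
      (A := MvPowerSeries (Fin n) k')) (f ^ m) =
      ((1 : MvPowerSeries (Fin n) k') ⊗ₜ[MvPowerSeries (Fin n) k] f) ^ m := by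
    rw [map_pow]
    rfl
  rw [SetLike.mem_coe, h1] at hmem
  exact Ideal.IsPrime.mem_of_pow_mem inferInstance m hmem

end

end Groth.Agent.Lib.Helper88.CTensor
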