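import Mathlib
import Groth.Agent.Lib.Helper88.CTensor.FibreRank
import Groth.Agent.Lib.Helper88.OmegaHat.FreeOfFibre

/-!
# Fibre rank of the completed differentials of a quotient (helper88)

`A` complete Noetherian local `k`-algebra with residue field finite over `k`, `I` an ideal,
`A₁ = A ⧸ I`, `p ⊇ I` a prime.  The canonical map `Ω̂_{A/k} → Ω̂_{A₁/k}` is surjective, hence
`dim κ(p₁) ⊗ Ω̂_{A₁/k} ≤ dim κ(p) ⊗ Ω̂_{A/k}`.
-/

set_option autoImplicit false
set_option linter.unusedSectionVars false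
set_option linter.style.haveILetI false

universe u

namespace Groth.Agent.Lib.Helper88.CTensor

open IsLocalRing TensorProduct Groth.Agent.Lib.Helper88.OmegaHat

section

variable (k A : Type u) [Field k] [CommRing A] [IsLocalRing A] [IsNoetherianRing A] [Algebra k A]
  [IsAdicComplete (maximalIdeal A) A] [Module.Finite k (ResidueField A)]
  (I : Ideal A) [IsLocalRing (A ⧸ I)] [IsAdicComplete (maximalIdeal (A ⧸ I)) (A ⧸ I)]
  [Module.Finite k (ResidueField (A ⧸ I))]

/-- the canonical surjection `Ω̂_A → Ω̂_{A/I}` -/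
theorem exists_surjective_omegaHat_quotient :
    ∃ Φ : AdicCompletion (maximalIdeal A) (Ω[A⁄k]) →ₗ[A]
        AdicCompletion (maximalIdeal (A ⧸ I)) (Ω[(A ⧸ I)⁄k]),
      Function.Surjective Φ ∧ ∀ a, Φ (dHat k A a) = dHat k (A ⧸ I) (Ideal.Quotient.mk I a) := by
  have hfin₁ := finite_omegaHat' k (A ⧸ I)
  have hfinA : Module.Finite A (AdicCompletion (maximalIdeal (A ⧸ I)) (Ω[(A ⧸ I)⁄k])) :=
    Module.Finite.trans (A ⧸ I) _
  let D₁ : Derivation k (A ⧸ I) (AdicCompletion (maximalIdeal (A ⧸ I)) (Ω[(A ⧸ I)⁄k])) :=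
    (AdicCompletion.of (maximalIdeal (A ⧸ I)) (Ω[(A ⧸ I)⁄k])).compDer
      (KaehlerDifferential.D k (A ⧸ I))
  let D : Derivation k A (AdicCompletion (maximalIdeal (A ⧸ I)) (Ω[(A ⧸ I)⁄k])) :=
    D₁.compAlgebraMap A
  obtain ⟨Φ, hΦ⟩ := exists_functional_of_derivation k A _ D
  have hΦ' : ∀ a, Φ (dHat k A a) = dHat k (A ⧸ I) (Ideal.Quotient.mk I a) := fun a => hΦ a
  refine ⟨Φ, ?_, hΦ'⟩
  rw [← LinearMap.range_eq_top, eq_top_iff]
  have hspan := span_range_dHat k (A ⧸ I)
  have h1 : (Submodule.span (A ⧸ I) (Set.range (dHat k (A ⧸ I)))).restrictScalars A =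
      Submodule.span A (Set.range (dHat k (A ⧸ I))) :=
    Submodule.restrictScalars_span A (A ⧸ I) Ideal.Quotient.mk_surjective _
  rw [hspan] at h1
  intro y _
  have hy : y ∈ Submodule.span A (Set.range (dHat k (A ⧸ I))) := by
    rw [← h1]; trivial
  refine (Submodule.span_le.mpr ?_) hy
  rintro _ ⟨a₁, rfl⟩
  obtain ⟨a, rfl⟩ := Ideal.Quotient.mk_surjective a₁
  exact ⟨dHat k A a, hΦ' a⟩

/-- fibre ranks decrease along the quotient -/
theorem finrank_fibre_quotient_le (p : Ideal A) [p.IsPrime] (hIp : I ≤ p)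
    [hp₁ : (p.map (Ideal.Quotient.mk I)).IsPrime] (n : ℕ)
    (hfib : Module.finrank p.ResidueField
      (p.ResidueField ⊗[A] AdicCompletion (maximalIdeal A) (Ω[A⁄k])) ≤ n) :
    Module.finrank (p.map (Ideal.Quotient.mk I)).ResidueField
      ((p.map (Ideal.Quotient.mk I)).ResidueField ⊗[A ⧸ I]
        AdicCompletion (maximalIdeal (A ⧸ I)) (Ω[(A ⧸ I)⁄k])) ≤ n := by
  classical
  have hfinΩA := finite_omegaHat' k A
  obtain ⟨Φ, hΦsurj, -⟩ := exists_surjective_omegaHat_quotient k A I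
  obtain ⟨w, hw⟩ := exists_span_fibre p _ n hfib
  have hloc := span_localized_of_span_fibre p _ w hw
  have hclear : ∀ y : AdicCompletion (maximalIdeal A) (Ω[A⁄k]),
      ∃ u : A, u ∉ p ∧ u • y ∈ Submodule.span A (Set.range w) := by
    intro y
    have hy : LocalizedModule.mk y (1 : p.primeCompl) ∈ Submodule.span (Localization.AtPrime p)
        (Set.range fun i => LocalizedModule.mk (w i) (1 : p.primeCompl)) := by
      rw [hloc]; trivial
    obtain ⟨t, ht, y', hy', h⟩ := exists_smul_mem_span_of_mem p _ w _ hy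
    rw [LocalizedModule.smul'_mk, LocalizedModule.mk_eq] at h
    obtain ⟨t', ht'⟩ := h
    rw [one_smul, one_smul] at ht'
    refine ⟨(t' : A) * t, fun h => (Ideal.IsPrime.mem_or_mem inferInstance h).elim t'.2 ht, ?_⟩
    rw [mul_smul]
    have : (t' : A) • t • y = (t' : A) • y' := ht'
    rw [this]
    exact Submodule.smul_mem _ _ hy'
  have hcomap : (p.map (Ideal.Quotient.mk I)).comap (Ideal.Quotient.mk I) = p := by
    rw [Ideal.comap_map_of_surjective _ Ideal.Quotient.mk_surjective, ← RingHom.ker_eq_comap_bot,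
      Ideal.mk_ker, sup_of_le_left hIp]
  have hne : ∀ u : A, u ∉ p → algebraMap (A ⧸ I) (p.map (Ideal.Quotient.mk I)).ResidueField
      (Ideal.Quotient.mk I u) ≠ 0 := by
    intro u hu
    rw [Ne, Ideal.algebraMap_residueField_eq_zero]
    intro h
    apply hu
    rw [← hcomap]
    exact Ideal.mem_comap.mpr h
  have hsm : ∀ (a : A) (y₁ : AdicCompletion (maximalIdeal (A ⧸ I)) (Ω[(A ⧸ I)⁄k])),
      (1 : (p.map (Ideal.Quotient.mk I)).ResidueField) ⊗ₜ[A ⧸ I] (a • y₁) =
        algebraMap (A ⧸ I) (p.map (Ideal.Quotient.mk I)).ResidueField (Ideal.Quotient.mk I a) •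
          ((1 : (p.map (Ideal.Quotient.mk I)).ResidueField) ⊗ₜ[A ⧸ I] y₁) := by
    intro a y₁
    have h0 : a • y₁ = (Ideal.Quotient.mk I a) • y₁ := (algebraMap_smul (A ⧸ I) a y₁).symm
    rw [h0, TensorProduct.tmul_smul]
    exact (algebraMap_smul (p.map (Ideal.Quotient.mk I)).ResidueField _ _).symm
  have hspanA : ∀ z ∈ Submodule.span A (Set.range (Φ ∘ w)),
      (1 : (p.map (Ideal.Quotient.mk I)).ResidueField) ⊗ₜ[A ⧸ I] z ∈
        Submodule.span (p.map (Ideal.Quotient.mk I)).ResidueField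
          (Set.range fun i => (1 : (p.map (Ideal.Quotient.mk I)).ResidueField) ⊗ₜ[A ⧸ I]
            Φ (w i)) := by
    intro z hz
    induction hz using Submodule.span_induction with
    | mem x hx =>
      obtain ⟨i, rfl⟩ := hx
      exact Submodule.subset_span ⟨i, rfl⟩
    | zero => rw [TensorProduct.tmul_zero]; exact Submodule.zero_mem _
    | add x y _ _ hx hy => rw [TensorProduct.tmul_add]; exact Submodule.add_mem _ hx hy
    | smul a x _ hx => rw [hsm]; exact Submodule.smul_mem _ _ hx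
  have htop : Submodule.span (p.map (Ideal.Quotient.mk I)).ResidueField
      (Set.range fun i => (1 : (p.map (Ideal.Quotient.mk I)).ResidueField) ⊗ₜ[A ⧸ I]
        Φ (w i)) = ⊤ := by
    rw [eq_top_iff, ← span_one_tmul (p.map (Ideal.Quotient.mk I)) _, Submodule.span_le]
    rintro _ ⟨y₁, rfl⟩
    obtain ⟨y, rfl⟩ := hΦsurj y₁
    obtain ⟨u, hu, huy⟩ := hclear y
    have h1 : Φ (u • y) ∈ Submodule.span A (Set.range (Φ ∘ w)) := by
      rw [Set.range_comp, ← Submodule.map_span]
      exact Submodule.mem_map_of_mem huy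
    have h2 := hspanA _ h1
    rw [map_smul, hsm] at h2
    have h3 := Submodule.smul_mem _
      (algebraMap (A ⧸ I) (p.map (Ideal.Quotient.mk I)).ResidueField
        (Ideal.Quotient.mk I u))⁻¹ h2
    rwa [smul_smul, inv_mul_cancel₀ (hne u hu), one_smul] at h3
  have h1 := finrank_range_le_card (R := (p.map (Ideal.Quotient.mk I)).ResidueField)
    (fun i => (1 : (p.map (Ideal.Quotient.mk I)).ResidueField) ⊗ₜ[A ⧸ I] Φ (w i))
  rw [Set.finrank, htop, finrank_top, Fintype.card_fin] at h1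
  exact h1

end

end Groth.Agent.Lib.Helper88.CTensor
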