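import Mathlib
import Groth.Agent.S5055
import Groth.Agent.Lib.Helper88.CTensor.AReduction
import Groth.Agent.Lib.Helper88.CTensor.QuotFibre

/-!
# (b) ⇒ (d): reduction to the components through `p` (helper88)

`A` complete Noetherian local `k`-algebra, `p` a non-maximal prime, `n` the largest dimension of
a component through `p`, `𝔞 = ker (A → A_p)`, `A₁ = A ⧸ 𝔞`, `p₁ = p A₁`.  If `Ω̂_p` is free of
rank `n` then the hypotheses of `S5055` hold for `(A₁, p₁)`.
-/

set_option autoImplicit false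
set_option linter.unusedSectionVars false
set_option linter.style.haveILetI false

universe u

namespace Groth.Agent.Lib.Helper88.CTensor

open IsLocalRing TensorProduct Groth.Agent.Lib.Helper88.OmegaHat

theorem isGeometricallyRegular_of_algEquiv' (k K K' : Type u) [Field k] [CommRing K] [CommRing K']
    [Algebra k K] [Algebra k K'] (e : K ≃ₐ[k] K') (h : CAlg.IsGeometricallyRegular k K) :
    CAlg.IsGeometricallyRegular k K' := by
  intro k' _ _ hfin
  have h1 := h k' hfin
  exact IsRegularRing.of_ringEquiv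
    (Algebra.TensorProduct.congr (AlgEquiv.refl (R := k) (A₁ := k')) e).toRingEquiv

section

variable (k A : Type u) [Field k] [CommRing A] [IsLocalRing A] [IsNoetherianRing A] [Algebra k A]
  [IsAdicComplete (maximalIdeal A) A] [Module.Finite k (ResidueField A)]
  (p : Ideal A) [p.IsPrime]

/-- the instances on `A₁ = A ⧸ 𝔞` -/
theorem reduction_instances (hp : p ≠ maximalIdeal A) :
    ∃ (_ : IsLocalRing (A ⧸ kerLoc p))
      (_ : IsAdicComplete (maximalIdeal (A ⧸ kerLoc p)) (A ⧸ kerLoc p))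
      (_ : Module.Finite k (ResidueField (A ⧸ kerLoc p)))
      (_ : (p.map (Ideal.Quotient.mk (kerLoc p))).IsPrime),
      p.map (Ideal.Quotient.mk (kerLoc p)) ≠ maximalIdeal (A ⧸ kerLoc p) := by
  have hne : kerLoc p ≠ ⊤ := fun h => (Ideal.IsPrime.ne_top inferInstance)
    (top_le_iff.mp (h ▸ kerLoc_le p))
  have hloc : IsLocalRing (A ⧸ kerLoc p) :=
    Groth.Agent.Lib.Helper85.isLocalRing_quotient (kerLoc p) hne
  have hmax : (maximalIdeal A).map (algebraMap A (A ⧸ kerLoc p)) = maximalIdeal (A ⧸ kerLoc p) :=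
    Groth.Agent.Lib.Helper85.maximalIdeal_map_of_surjective _ Ideal.Quotient.mk_surjective
  have hcompl : IsAdicComplete (maximalIdeal (A ⧸ kerLoc p)) (A ⧸ kerLoc p) := by
    rw [← hmax]
    exact Groth.Agent.Lib.Helper44.isAdicComplete_quotient_ring (maximalIdeal A) (kerLoc p)
  have hfin : Module.Finite k (ResidueField (A ⧸ kerLoc p)) :=
    finite_residueField_quotient k A (kerLoc p)
  refine ⟨hloc, hcompl, hfin, isPrime_map_mk_kerLoc p, ?_⟩
  intro h
  apply hp
  rw [← comap_map_mk_kerLoc p, h]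
  have : ((maximalIdeal (A ⧸ kerLoc p)).comap (Ideal.Quotient.mk (kerLoc p))).IsMaximal :=
    Ideal.comap_isMaximal_of_surjective _ Ideal.Quotient.mk_surjective
  exact IsLocalRing.eq_maximalIdeal this

/-- the hypotheses of `S5055` for `(A₁, p₁)` and its conclusion -/
theorem reduction_free (n : ℕ)
    (hn₁ : ∀ q ∈ minimalPrimes A, q ≤ p → ringKrullDim (A ⧸ q) ≤ n)
    (hn₂ : ∃ q ∈ minimalPrimes A, q ≤ p ∧ ringKrullDim (A ⧸ q) = n)
    (hb : Module.Free (Localization.AtPrime p)
        (LocalizedModule p.primeCompl (AdicCompletion (maximalIdeal A) (Ω[A⁄k]))) ∧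
      Module.finrank (Localization.AtPrime p)
        (LocalizedModule p.primeCompl (AdicCompletion (maximalIdeal A) (Ω[A⁄k]))) = n)
    [IsLocalRing (A ⧸ kerLoc p)]
    [IsAdicComplete (maximalIdeal (A ⧸ kerLoc p)) (A ⧸ kerLoc p)]
    [Module.Finite k (ResidueField (A ⧸ kerLoc p))]
    [hp₁prime : (p.map (Ideal.Quotient.mk (kerLoc p))).IsPrime]
    (hp₁ : p.map (Ideal.Quotient.mk (kerLoc p)) ≠ maximalIdeal (A ⧸ kerLoc p)) :
    ringKrullDim (A ⧸ kerLoc p) = n ∧
      (∃ Q ∈ minimalPrimes (A ⧸ kerLoc p), Q ≤ p.map (Ideal.Quotient.mk (kerLoc p)) ∧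
        ringKrullDim ((A ⧸ kerLoc p) ⧸ Q) = n) ∧
      (Module.Free (Localization.AtPrime (p.map (Ideal.Quotient.mk (kerLoc p))))
          (LocalizedModule (p.map (Ideal.Quotient.mk (kerLoc p))).primeCompl
            (AdicCompletion (maximalIdeal (A ⧸ kerLoc p)) (Ω[(A ⧸ kerLoc p)⁄k]))) ∧
        Module.finrank (Localization.AtPrime (p.map (Ideal.Quotient.mk (kerLoc p))))
          (LocalizedModule (p.map (Ideal.Quotient.mk (kerLoc p))).primeCompl
            (AdicCompletion (maximalIdeal (A ⧸ kerLoc p)) (Ω[(A ⧸ kerLoc p)⁄k]))) = n) ∧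
      CAlg.IsGeometricallyRegular k
        (Localization.AtPrime (p.map (Ideal.Quotient.mk (kerLoc p)))) := by
  classical
  obtain ⟨hfree, hrank⟩ := hb
  have hfinΩA := finite_omegaHat' k A
  have hfinΩ₁ := finite_omegaHat' k (A ⧸ kerLoc p)
  have hfib : Module.finrank p.ResidueField
      (p.ResidueField ⊗[A] AdicCompletion (maximalIdeal A) (Ω[A⁄k])) ≤ n := by
    let bB := Module.finBasisOfFinrankEq (Localization.AtPrime p)
      (LocalizedModule p.primeCompl (AdicCompletion (maximalIdeal A) (Ω[A⁄k]))) hrank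
    exact finrank_fibre_le_of_span_localized p _ n bB bB.span_eq
  have hfib₁ := finrank_fibre_quotient_le k A (kerLoc p) p (kerLoc_le p) n hfib
  obtain ⟨hdim, hQ⟩ := ringKrullDim_quotient_kerLoc p n hn₁ hn₂
  obtain ⟨w, hw⟩ := exists_span_fibre (p.map (Ideal.Quotient.mk (kerLoc p))) _ n hfib₁
  have hloc := span_localized_of_span_fibre (p.map (Ideal.Quotient.mk (kerLoc p))) _ w hw
  have h := Groth.Agent.S5055.result k (A ⧸ kerLoc p) n hdim
    (p.map (Ideal.Quotient.mk (kerLoc p))) hp₁ hQ ⟨_, hloc⟩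
  exact ⟨hdim, hQ, h.1, h.2⟩

/-- (b) ⇒ (d) -/
theorem isGeometricallyRegular_of_free (hp : p ≠ maximalIdeal A) (n : ℕ)
    (hn₁ : ∀ q ∈ minimalPrimes A, q ≤ p → ringKrullDim (A ⧸ q) ≤ n)
    (hn₂ : ∃ q ∈ minimalPrimes A, q ≤ p ∧ ringKrullDim (A ⧸ q) = n)
    (hb : Module.Free (Localization.AtPrime p)
        (LocalizedModule p.primeCompl (AdicCompletion (maximalIdeal A) (Ω[A⁄k]))) ∧
      Module.finrank (Localization.AtPrime p)
        (LocalizedModule p.primeCompl (AdicCompletion (maximalIdeal A) (Ω[A⁄k]))) = n) :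
    CAlg.IsGeometricallyRegular k (Localization.AtPrime p) := by
  obtain ⟨hloc, hcompl, hfin, hprime, hp₁⟩ := reduction_instances k A p hp
  obtain ⟨-, -, -, hGR⟩ := reduction_free k A p n hn₁ hn₂ hb hp₁
  have hL := isLocalization_atPrime_quotient_kerLoc p
  let e : Localization.AtPrime (p.map (Ideal.Quotient.mk (kerLoc p))) ≃ₐ[A]
      Localization.AtPrime p :=
    IsLocalization.algEquiv p.primeCompl _ _
  exact isGeometricallyRegular_of_algEquiv' k _ _ (e.restrictScalars k) hGR

end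

end Groth.Agent.Lib.Helper88.CTensor
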