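import Mathlib
import Groth.Agent.S3850
import Groth.Agent.S5993
import Groth.Agent.Lib.Helper88.CTensor.BtoD
import Groth.Agent.Lib.Helper88.CTensor.BtoATensor

/-!
# (b) ⇒ (a) (helper88)
-/

set_option autoImplicit false
set_option linter.unusedSectionVars false
set_option linter.style.haveILetI false

universe u

namespace Groth.Agent.Lib.Helper88.CTensor

open IsLocalRing TensorProduct MvPowerSeries Groth.Agent.Lib.Helper88.OmegaHat

section

variable (k A : Type u) [Field k] [CommRing A] [IsLocalRing A] [IsNoetherianRing A] [Algebra k A]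
  [IsAdicComplete (maximalIdeal A) A] [Module.Finite k (ResidueField A)]
  (p : Ideal A) [p.IsPrime]

theorem regular_of_free (hp : p ≠ maximalIdeal A) (n : ℕ)
    (hn₁ : ∀ q ∈ minimalPrimes A, q ≤ p → ringKrullDim (A ⧸ q) ≤ n)
    (hn₂ : ∃ q ∈ minimalPrimes A, q ≤ p ∧ ringKrullDim (A ⧸ q) = n)
    (hb : Module.Free (Localization.AtPrime p)
        (LocalizedModule p.primeCompl (AdicCompletion (maximalIdeal A) (Ω[A⁄k]))) ∧
      Module.finrank (Localization.AtPrime p)
        (LocalizedModule p.primeCompl (AdicCompletion (maximalIdeal A) (Ω[A⁄k]))) = n)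
    (k' : Type u) [Field k'] [Algebra k k']
    (p' : Ideal (AdicCompletion ((maximalIdeal A).map
      (Algebra.TensorProduct.includeLeft : A →ₐ[k] A ⊗[k] k')) (A ⊗[k] k'))) [p'.IsPrime]
    (hp' : (p'.comap (algebraMap (A ⊗[k] k') _)).comap
        (Algebra.TensorProduct.includeLeft : A →ₐ[k] A ⊗[k] k').toRingHom = p) :
    IsRegularLocalRing (Localization.AtPrime p') := by
  classical
  obtain ⟨hloc, hcompl, hfin, hprime, hp₁⟩ := reduction_instances k A p hp
  obtain ⟨hdim, hQ, hb₁, -⟩ := reduction_free k A p n hn₁ hn₂ hb hp₁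
  obtain ⟨algP, tower, hlocP, hfinP, het⟩ :=
    (Groth.Agent.S3850.result k (A ⧸ kerLoc p) n hdim _ hp₁ hQ).mp hb₁
  obtain ⟨hNoeth, -, hcomplC, -⟩ := Groth.Agent.S5993.result k A k'
    ((maximalIdeal A).map (Algebra.TensorProduct.includeLeft : A →ₐ[k] A ⊗[k] k')) rfl
  have hmax : (maximalIdeal A).map (Ideal.Quotient.mk (kerLoc p)) = maximalIdeal (A ⧸ kerLoc p) :=
    Groth.Agent.Lib.Helper85.maximalIdeal_map_of_surjective _ Ideal.Quotient.mk_surjective
  have hp'A : p'.comap (toCompl k A k' (maximalIdeal A)) = p := hp'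
  have hcomplC' : IsAdicComplete ((maximalIdeal A).map (toCompl k A k' (maximalIdeal A)))
      (AdicCompletion ((maximalIdeal A).map
        (Algebra.TensorProduct.includeLeft : A →ₐ[k] A ⊗[k] k')) (A ⊗[k] k')) := hcomplC
  -- `T_i ↦ 𝔪`
  have hX : ∀ i, algebraMap (MvPowerSeries (Fin n) k) (A ⧸ kerLoc p) (X i) ∈
      (maximalIdeal A).map (Ideal.Quotient.mk (kerLoc p)) := by
    intro i
    rw [hmax, mem_maximalIdeal, mem_nonunits_iff]
    intro hu
    have h1 : IsUnit (X i : MvPowerSeries (Fin n) k) := hlocP.map_nonunit _ hu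
    rw [MvPowerSeries.isUnit_iff_constantCoeff] at h1
    simp at h1
  -- completeness of `Q`
  have hQc : IsAdicComplete (((maximalIdeal A).map (toCompl k A k' (maximalIdeal A))).map
      (Ideal.Quotient.mk ((kerLoc p).map (toCompl k A k' (maximalIdeal A)))))
      (AdicCompletion ((maximalIdeal A).map
        (Algebra.TensorProduct.includeLeft : A →ₐ[k] A ⊗[k] k')) (A ⊗[k] k') ⧸
          (kerLoc p).map (toCompl k A k' (maximalIdeal A))) :=
    Groth.Agent.Lib.Helper44.isAdicComplete_quotient_ring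
      ((maximalIdeal A).map (toCompl k A k' (maximalIdeal A)))
      ((kerLoc p).map (toCompl k A k' (maximalIdeal A)))
  -- completeness of `R₂`
  have hR₂ : IsAdicComplete ((maximalIdeal A).map (toTensor k A k' (kerLoc p) n))
      (MvPowerSeries (Fin n) k' ⊗[MvPowerSeries (Fin n) k] (A ⧸ kerLoc p)) := by
    have h1 := isAdicComplete_tensor k k' n (A ⧸ kerLoc p) hlocP
    have h2 : (maximalIdeal A).map (toTensor k A k' (kerLoc p) n) =
        (maximalIdeal (A ⧸ kerLoc p)).map
          (Algebra.TensorProduct.includeRight : (A ⧸ kerLoc p) →ₐ[MvPowerSeries (Fin n) k]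
            MvPowerSeries (Fin n) k' ⊗[MvPowerSeries (Fin n) k] (A ⧸ kerLoc p)).toRingHom := by
      rw [← hmax, Ideal.map_map]
      rfl
    rw [h2]
    exact h1
  have hfg : (maximalIdeal A).FG := IsNoetherian.noetherian _
  obtain ⟨e, he⟩ := exists_ringEquiv_quotient k A k' (maximalIdeal A) (kerLoc p) n hfg hX hQc hR₂
  -- the surjection `g : C' → R₂`
  let ιA := toCompl k A k' (maximalIdeal A)
  let g : AdicCompletion ((maximalIdeal A).map
      (Algebra.TensorProduct.includeLeft : A →ₐ[k] A ⊗[k] k')) (A ⊗[k] k') →+*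
      MvPowerSeries (Fin n) k' ⊗[MvPowerSeries (Fin n) k] (A ⧸ kerLoc p) :=
    e.toRingHom.comp (Ideal.Quotient.mk ((kerLoc p).map ιA))
  have hg : Function.Surjective g := e.surjective.comp Ideal.Quotient.mk_surjective
  have hgA : ∀ a, g (ιA a) = toTensor k A k' (kerLoc p) n a := he
  have hkerg : RingHom.ker g = (kerLoc p).map ιA := by
    ext x
    rw [RingHom.mem_ker]
    change e (Ideal.Quotient.mk ((kerLoc p).map ιA) x) = 0 ↔ _
    rw [map_eq_zero_iff e e.injective, Ideal.Quotient.eq_zero_iff_mem]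
  have hker : RingHom.ker g ≤ kerLoc p' := by
    rw [hkerg, Ideal.map_le_iff_le_comap]
    intro a ha
    obtain ⟨s, hs, hsa⟩ := (mem_kerLoc_iff p a).mp ha
    rw [Ideal.mem_comap, mem_kerLoc_iff]
    refine ⟨ιA s, ?_, ?_⟩
    · intro h
      apply hs
      rw [← hp'A]
      exact Ideal.mem_comap.mpr h
    · rw [← map_mul, hsa, map_zero]
  have hkerp' : RingHom.ker g ≤ p' := hker.trans (kerLoc_le p')
  have hp₂prime : (p'.map g).IsPrime := Ideal.map_isPrime_of_surjective hg hkerp'
  have hp₂comap : (p'.map g).comap g = p' := by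
    rw [Ideal.comap_map_of_surjective g hg, ← RingHom.ker_eq_comap_bot, sup_of_le_left hkerp']
  -- the étale locus
  have hNoethP : IsNoetherianRing (MvPowerSeries (Fin n) k) := inferInstance
  have hfp : Algebra.FinitePresentation (MvPowerSeries (Fin n) k) (A ⧸ kerLoc p) :=
    Algebra.FinitePresentation.of_finiteType.mp inferInstance
  haveI := het
  obtain ⟨f, hf, hEt⟩ := Algebra.exists_etale_of_isEtaleAt (R := MvPowerSeries (Fin n) k)
    (p.map (Ideal.Quotient.mk (kerLoc p)))
  obtain ⟨a₀, rfl⟩ := Ideal.Quotient.mk_surjective f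
  have ha₀ : a₀ ∉ p := fun h => hf (Ideal.mem_map_of_mem _ h)
  have hf₂ : (1 : MvPowerSeries (Fin n) k') ⊗ₜ[MvPowerSeries (Fin n) k]
      (Ideal.Quotient.mk (kerLoc p) a₀) ∉ p'.map g := by
    intro h
    apply ha₀
    rw [← hp'A, Ideal.mem_comap, ← hp₂comap, Ideal.mem_comap, hgA]
    exact h
  have hreg₂ : IsRegularLocalRing (Localization.AtPrime (p'.map g)) :=
    isRegularLocalRing_tensor_atPrime k k' n (A ⧸ kerLoc p) (Ideal.Quotient.mk (kerLoc p) a₀)
      (p'.map g) hf₂
  obtain ⟨e'⟩ := nonempty_ringEquiv_atPrime_of_surjective g hg p' hker (p'.map g) hp₂comap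
  exact IsRegularLocalRing.of_ringEquiv e'.symm

end

end Groth.Agent.Lib.Helper88.CTensor
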