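import Mathlib
import Groth.Agent.S5993

/-!
# Primes of the completed tensor product over a given prime (helper88)
-/

set_option autoImplicit false
set_option linter.unusedSectionVars false
set_option linter.style.haveILetI false

universe u

namespace Groth.Agent.Lib.Helper88.CTensor

open IsLocalRing TensorProduct

section

variable (k A : Type u) [Field k] [CommRing A] [IsLocalRing A] [IsNoetherianRing A] [Algebra k A]
  [IsAdicComplete (maximalIdeal A) A] [Module.Finite k (ResidueField A)]
  (k' : Type u) [Field k'] [Algebra k k']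

theorem map_includeLeft_ne_top :
    (maximalIdeal A).map (Algebra.TensorProduct.includeLeft : A →ₐ[k] A ⊗[k] k') ≠ ⊤ := by
  intro h
  have hff : Module.FaithfullyFlat A (A ⊗[k] k') := inferInstance
  have h1 := Ideal.comap_map_eq_self_of_faithfullyFlat (B := A ⊗[k] k') (maximalIdeal A)
  have h2 : (maximalIdeal A).map (algebraMap A (A ⊗[k] k')) = ⊤ := h
  rw [h2, Ideal.comap_top] at h1
  exact (Ideal.IsPrime.ne_top inferInstance) h1.symm

theorem nontrivial_completion :
    Nontrivial (AdicCompletion ((maximalIdeal A).map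
      (Algebra.TensorProduct.includeLeft : A →ₐ[k] A ⊗[k] k')) (A ⊗[k] k')) := by
  have hne := map_includeLeft_ne_top k A k'
  have h1 : Nontrivial ((A ⊗[k] k') ⧸ ((maximalIdeal A).map
      (Algebra.TensorProduct.includeLeft : A →ₐ[k] A ⊗[k] k')) ^ 1) := by
    rw [pow_one]
    exact Ideal.Quotient.nontrivial_iff.mpr hne
  exact (AdicCompletion.evalₐ ((maximalIdeal A).map
    (Algebra.TensorProduct.includeLeft : A →ₐ[k] A ⊗[k] k')) 1).toRingHom.domain_nontrivial

/-- there is a prime of `A ⊗̂_k k'` over every prime of `A` -/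
theorem exists_prime_over (p : Ideal A) [p.IsPrime] :
    ∃ (p' : Ideal (AdicCompletion ((maximalIdeal A).map
      (Algebra.TensorProduct.includeLeft : A →ₐ[k] A ⊗[k] k')) (A ⊗[k] k'))) (_ : p'.IsPrime),
      (p'.comap (algebraMap (A ⊗[k] k') _)).comap
        (Algebra.TensorProduct.includeLeft : A →ₐ[k] A ⊗[k] k').toRingHom = p := by
  have hnt := nontrivial_completion k A k'
  obtain ⟨-, -, -, hM⟩ := Groth.Agent.S5993.result k A k'
    ((maximalIdeal A).map (Algebra.TensorProduct.includeLeft : A →ₐ[k] A ⊗[k] k')) rfl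
  obtain ⟨M, hMmax⟩ := Ideal.exists_maximal (AdicCompletion ((maximalIdeal A).map
      (Algebra.TensorProduct.includeLeft : A →ₐ[k] A ⊗[k] k')) (A ⊗[k] k'))
  have hMprime : M.IsPrime := hMmax.isPrime
  obtain ⟨-, hBff, -, -⟩ := hM ⟨M, hMmax⟩
  change Module.FaithfullyFlat A (Localization.AtPrime M) at hBff
  obtain ⟨P, hPprime, hPover⟩ :=
    Ideal.exists_isPrime_liesOver_of_faithfullyFlat (B := Localization.AtPrime M) p
  refine ⟨P.comap (algebraMap _ (Localization.AtPrime M)), Ideal.comap_isPrime _ _, ?_⟩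
  rw [hPover.over]
  rfl

end

end Groth.Agent.Lib.Helper88.CTensor
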